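import Cfsg.Agent.Involutions.PairCount

/-!
# Complete lists of representatives of the conjugacy classes from the class equation (helper300)

If the `r i` are pairwise not conjugate, `|C(r i)| ≤ c i` and `∑ |G| / c i ≥ |G|`, then every element is conjugate to
one of the `r i` and the class of `r i` has `|G| / c i` elements.
-/

set_option autoImplicit false

namespace Cfsg.Agent.H300.Cls

open Subgroup

theorem complete {G : Type*} [Group G] [Finite G] {m : ℕ} (r : Fin m → G) (c : Fin m → ℕ)
    (hc : ∀ i, Nat.card (centralizer ({r i} : Set G)) ≤ c i) (hn : ∀ i j, IsConj (r i) (r j) → i = j)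
    (hs : Nat.card G ≤ ∑ i, Nat.card G / c i) :
    (∀ g, ∃ i, IsConj (r i) g) ∧ ∀ i, Nat.card {u : G // IsConj (r i) u} = Nat.card G / c i := by
  classical
  have := Fintype.ofFinite G
  have h1 : ∀ i, Nat.card G / c i ≤ Nat.card {u : G // IsConj (r i) u} := by
    intro i
    have h := Cfsg.Agent.Involutions.PairCount.card_class_mul_card_centralizer (r i)
    have hp : 0 < Nat.card (centralizer ({r i} : Set G)) := Nat.card_pos
    rw [← h]
    calc _ ≤ Nat.card {u : G // IsConj (r i) u} * Nat.card (centralizer ({r i} : Set G)) /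
          Nat.card (centralizer ({r i} : Set G)) := Nat.div_le_div_left (hc i) hp
      _ = _ := Nat.mul_div_cancel _ hp
  have h2 : ∑ i, Nat.card {u : G // IsConj (r i) u} = (Finset.univ.filter fun g : G => ∃ i, IsConj (r i) g).card := by
    have e : (Finset.univ.filter fun g : G => ∃ i, IsConj (r i) g) =
        Finset.univ.biUnion fun i => Finset.univ.filter fun g : G => IsConj (r i) g := by
      ext g
      simp
    rw [e, Finset.card_biUnion]
    · refine Finset.sum_congr rfl fun i _ => ?_
      rw [Nat.card_eq_fintype_card, Fintype.card_subtype]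
    · intro i _ j _ hij
      rw [Function.onFun, Finset.disjoint_left]
      intro g h3 h4
      rw [Finset.mem_filter] at h3 h4
      exact hij (hn i j (h3.2.trans h4.2.symm))
  have h3 : (Finset.univ.filter fun g : G => ∃ i, IsConj (r i) g).card ≤ Nat.card G := by
    rw [Nat.card_eq_fintype_card]
    exact Finset.card_le_univ _
  have h4 : ∑ i, Nat.card G / c i ≤ ∑ i, Nat.card {u : G // IsConj (r i) u} := Finset.sum_le_sum fun i _ => h1 i
  constructor
  · intro g
    have h5 : (Finset.univ.filter fun g : G => ∃ i, IsConj (r i) g) = Finset.univ := by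
      apply Finset.eq_univ_of_card
      rw [← Nat.card_eq_fintype_card]
      omega
    have h6 : g ∈ (Finset.univ.filter fun g : G => ∃ i, IsConj (r i) g) := by rw [h5]; exact Finset.mem_univ g
    exact (Finset.mem_filter.1 h6).2
  · intro i
    have h5 : ∑ i, Nat.card G / c i = ∑ i, Nat.card {u : G // IsConj (r i) u} := by omega
    exact ((Finset.sum_eq_sum_iff_of_le fun i _ => h1 i).1 h5 i (Finset.mem_univ i)).symm

/-- the centralizer orders -/
theorem card_cent {G : Type*} [Group G] [Finite G] {x : G} {c : ℕ} (hd : c ∣ Nat.card G)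
    (h : Nat.card {u : G // IsConj x u} = Nat.card G / c) : Nat.card (centralizer ({x} : Set G)) = c := by
  have h1 := Cfsg.Agent.Involutions.PairCount.card_class_mul_card_centralizer x
  have h2 : Nat.card G / c * c = Nat.card G := Nat.div_mul_cancel hd
  have h3 : 0 < Nat.card G := Nat.card_pos
  have h4 : 0 < Nat.card G / c := by
    rcases Nat.eq_zero_or_pos (Nat.card G / c) with h5 | h5
    · rw [h5] at h2; omega
    · exact h5
  rw [h, ← h2] at h1
  rw [h2] at h1
  exact Nat.eq_of_mul_eq_mul_left h4 (h1.trans h2.symm)

/-- sums over the group -/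
theorem sum_classes {G : Type*} [Group G] [Fintype G] {m : ℕ} (r : Fin m → G) (hn : ∀ i j, IsConj (r i) (r j) → i = j)
    (hcov : ∀ g, ∃ i, IsConj (r i) g) {M : Type*} [AddCommMonoid M] (f : G → M)
    (hf : ∀ x y, IsConj x y → f x = f y) :
    ∑ g, f g = ∑ i, Nat.card {u : G // IsConj (r i) u} • f (r i) := by
  classical
  choose k hk using hcov
  rw [← Finset.sum_fiberwise Finset.univ k f]
  refine Finset.sum_congr rfl fun i _ => ?_
  have h1 : (Finset.univ.filter fun g : G => k g = i) = Finset.univ.filter fun g : G => IsConj (r i) g := by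
    ext g
    rw [Finset.mem_filter, Finset.mem_filter]
    refine ⟨fun h => ⟨h.1, h.2 ▸ hk g⟩, fun h => ⟨h.1, hn _ _ ((hk g).trans h.2.symm)⟩⟩
  rw [h1, Finset.sum_congr rfl (g := fun _ => f (r i)), Finset.sum_const, Nat.card_eq_fintype_card,
    Fintype.card_subtype]
  intro g hg
  exact (hf _ _ (Finset.mem_filter.1 hg).2).symm

/-- a power prime to the order has the same centralizer -/
theorem centralizer_pow {G : Type*} [Group G] {x : G} {k : ℕ} (h : (orderOf x).Coprime k) :
    centralizer ({x ^ k} : Set G) = centralizer ({x} : Set G) := by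
  have h1 : zpowers (x ^ k) = zpowers x := by
    apply le_antisymm
    · rw [zpowers_le]
      exact pow_mem (mem_zpowers x) k
    · rw [zpowers_le]
      obtain ⟨m, hm⟩ := exists_pow_eq_self_of_coprime (x := x) (n := k) h.symm
      have h3 : (x ^ k) ^ m ∈ zpowers (x ^ k) := pow_mem (mem_zpowers _) m
      rwa [hm] at h3
  have h2 : ∀ y : G, centralizer ({y} : Set G) = centralizer (zpowers y : Set G) := by
    intro y
    apply le_antisymm
    · intro z hz
      rw [mem_centralizer_singleton_iff] at hz
      rw [mem_centralizer_iff]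
      rintro _ ⟨n, rfl⟩
      have h3 : Commute z y := hz
      exact (h3.zpow_right n).eq.symm
    · exact centralizer_le (Set.singleton_subset_iff.2 (mem_zpowers y))
  rw [h2, h1, ← h2]

end Cfsg.Agent.H300.Cls
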