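import Cfsg.Agent.S0157
import Mathlib

/-!
# The permutation character on the edges of a graph (helper300)
-/

set_option autoImplicit false

namespace Cfsg.Agent.H300.Cls

open Cfsg Finset
open scoped Pointwise

variable {G : Type*} [Group G] {Y : Type*} [Fintype Y] [DecidableEq Y] [MulAction G Y] (A : Y → Y → Prop)

omit [Fintype Y] in
theorem pair_eq {x y z w : Y} : ({x, y} : Finset Y) = {z, w} ↔ x = z ∧ y = w ∨ x = w ∧ y = z := by
  rw [← Finset.coe_inj, Finset.coe_pair, Finset.coe_pair, Set.pair_eq_pair_iff]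

/-- the edges -/
def Edges (hA : ∀ (g : G) x y, A (g • x) (g • y) ↔ A x y) : SubMulAction G (Finset Y) where
  carrier := {s | ∃ p q, A p q ∧ s = {p, q}}
  smul_mem' := by
    rintro g _ ⟨p, q, h, rfl⟩
    refine ⟨g • p, g • q, (hA g p q).2 h, ?_⟩
    rw [smul_finset_insert, smul_finset_singleton]

variable [DecidableRel A]

theorem card_fixed_edges (hs : ∀ x y, A x y → A y x) (hi : ∀ x, ¬ A x x) (hA : ∀ (g : G) x y, A (g • x) (g • y) ↔ A x y)
    (g : G) : 2 * Nat.card (MulAction.fixedBy (Edges A hA) g) =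
      (∑ p : Y, if g • p = p then (univ.filter fun q : Y => g • q = q ∧ A p q).card else 0) +
      (univ.filter fun p : Y => A p (g • p) ∧ g • g • p = p).card := by
  classical
  let P1 : Finset (Y × Y) := univ.filter fun x => A x.1 x.2 ∧ g • x.1 = x.1 ∧ g • x.2 = x.2
  let P2 : Finset (Y × Y) := univ.filter fun x => A x.1 x.2 ∧ g • x.1 = x.2 ∧ g • x.2 = x.1
  have h1 : P1.card = ∑ p : Y, if g • p = p then (univ.filter fun q : Y => g • q = q ∧ A p q).card else 0 := by
    rw [Finset.card_eq_sum_card_fiberwise (f := Prod.fst) (t := univ) (fun _ _ => Finset.mem_coe.2 (mem_univ _))]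
    refine Finset.sum_congr rfl fun p _ => ?_
    split_ifs with h
    · apply Finset.card_bij (fun x _ => x.2)
      · intro x hx
        simp only [P1, mem_filter, mem_univ, true_and] at hx ⊢
        obtain ⟨⟨a, b, c⟩, rfl⟩ := hx
        exact ⟨c, a⟩
      · intro x hx y hy hxy
        simp only [mem_filter] at hx hy
        exact Prod.ext (hx.2.trans hy.2.symm) hxy
      · intro q hq
        simp only [mem_filter, mem_univ, true_and] at hq
        exact ⟨(p, q), by simp only [P1, mem_filter, mem_univ, true_and]; exact ⟨⟨hq.2, h, hq.1⟩, trivial⟩, rfl⟩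
    · rw [Finset.card_eq_zero, Finset.filter_eq_empty_iff]
      intro x hx h2
      simp only [P1, mem_filter, mem_univ, true_and] at hx
      rw [← h2] at h
      exact h hx.2.1
  have h2 : P2.card = (univ.filter fun p : Y => A p (g • p) ∧ g • g • p = p).card := by
    apply Finset.card_bij (fun x _ => x.1)
    · intro x hx
      simp only [P2, mem_filter, mem_univ, true_and] at hx ⊢
      obtain ⟨a, b, c⟩ := hx
      rw [b]
      exact ⟨a, c⟩
    · intro x hx y hy hxy
      simp only [P2, mem_filter, mem_univ, true_and] at hx hy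
      refine Prod.ext hxy ?_
      rw [← hx.2.1, ← hy.2.1, hxy]
    · intro p hp
      simp only [mem_filter, mem_univ, true_and] at hp
      exact ⟨(p, g • p), by simp only [P2, mem_filter, mem_univ, true_and]; exact hp, rfl⟩
  have hd : Disjoint P1 P2 := by
    rw [Finset.disjoint_left]
    intro x hx hy
    simp only [P1, P2, mem_filter, mem_univ, true_and] at hx hy
    have h3 : x.1 = x.2 := hx.2.1.symm.trans hy.2.1
    have h4 := hx.1
    rw [h3] at h4
    exact hi _ h4
  rw [← h1, ← h2, ← Finset.card_union_of_disjoint hd]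
  let F : Finset (Finset Y) := univ.filter fun s => (∃ p q, A p q ∧ s = {p, q}) ∧ g • s = s
  have h3 : Nat.card (MulAction.fixedBy (Edges A hA) g) = F.card := by
    rw [← Fintype.card_coe, ← Nat.card_eq_fintype_card]
    refine Nat.card_congr
      { toFun := fun x => ⟨x.1.1, ?_⟩
        invFun := fun s => ⟨⟨s.1, ?_⟩, ?_⟩
        left_inv := fun x => rfl
        right_inv := fun s => rfl }
    · rw [mem_filter]
      exact ⟨mem_univ _, x.1.2, congrArg Subtype.val (MulAction.mem_fixedBy.1 x.2)⟩
    · exact (mem_filter.1 s.2).2.1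
    · rw [MulAction.mem_fixedBy]
      exact Subtype.ext (mem_filter.1 s.2).2.2
  rw [h3, mul_comm]
  symm
  rw [Finset.card_eq_sum_card_fiberwise (f := fun x : Y × Y => ({x.1, x.2} : Finset Y)) (t := F)]
  · rw [Finset.sum_congr rfl (g := fun _ => 2), Finset.sum_const, smul_eq_mul]
    intro s hs'
    simp only [F, mem_filter, mem_univ, true_and] at hs'
    obtain ⟨⟨p, q, hpq, rfl⟩, h4⟩ := hs'
    rw [smul_finset_insert, smul_finset_singleton, pair_eq] at h4
    have hne : p ≠ q := fun h => hi q (h ▸ hpq)
    have h5 : ((P1 ∪ P2).filter fun x : Y × Y => ({x.1, x.2} : Finset Y) = {p, q}) = {(p, q), (q, p)} := by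
      ext x
      simp only [P1, P2, mem_filter, mem_union, mem_univ, true_and, mem_insert, mem_singleton, pair_eq, Prod.ext_iff]
      constructor
      · rintro ⟨-, h⟩
        exact h
      · intro h
        refine ⟨?_, h⟩
        rcases h with ⟨h6, h7⟩ | ⟨h6, h7⟩
        · rw [h6, h7]
          rcases h4 with h4 | h4
          · exact Or.inl ⟨hpq, h4⟩
          · exact Or.inr ⟨hpq, h4⟩
        · rw [h6, h7]
          rcases h4 with h4 | h4
          · exact Or.inl ⟨hs _ _ hpq, h4.2, h4.1⟩
          · exact Or.inr ⟨hs _ _ hpq, h4.2, h4.1⟩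
    rw [h5, Finset.card_pair]
    intro h
    exact hne (congrArg Prod.fst h)
  · intro x hx
    simp only [P1, P2, F, coe_filter, coe_union, Set.mem_union, Set.mem_ofPred_eq, mem_univ, true_and] at hx ⊢
    rcases hx with ⟨h4, h5, h6⟩ | ⟨h4, h5, h6⟩
    · refine ⟨⟨_, _, h4, rfl⟩, ?_⟩
      rw [smul_finset_insert, smul_finset_singleton, h5, h6]
    · refine ⟨⟨_, _, h4, rfl⟩, ?_⟩
      rw [smul_finset_insert, smul_finset_singleton, h5, h6, Finset.pair_comm]

/-- the permutation character on the edges -/
theorem isCharacter_edges (hs : ∀ x y, A x y → A y x) (hi : ∀ x, ¬ A x x)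
    (hA : ∀ (g : G) x y, A (g • x) (g • y) ↔ A x y) (e : G → ℕ)
    (he : ∀ g : G, 2 * e g = (∑ p : Y, if g • p = p then (univ.filter fun q : Y => g • q = q ∧ A p q).card else 0) +
      (univ.filter fun p : Y => A p (g • p) ∧ g • g • p = p).card) : IsCharacter G (fun g => (e g : ℂ)) := by
  have h := Cfsg.Agent.S0157.isCharacter_fixedBy (G := G) (Edges A hA)
  have h0 : (fun g => (e g : ℂ)) = fun g : G => (Nat.card (MulAction.fixedBy (Edges A hA) g) : ℂ) := by
    funext g
    have h1 := card_fixed_edges A hs hi hA g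
    rw [← he g] at h1
    have h2 : Nat.card (MulAction.fixedBy (Edges A hA) g) = e g := by omega
    rw [h2]
  rw [h0]
  exact h

end Cfsg.Agent.H300.Cls
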