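import Cfsg.Agent.H139.Cusp.Adams
import Cfsg.Agent.PermChar.SymAlt
import Cfsg.Agent.H621.AltChar
import Cfsg.Agent.H300.Cls.Complete

/-!
# Generalized characters given by tables of integers (helper300)

`fam : G → ℕ` has values less than `N`; `GC fam v` : `g ↦ v[fam g]` is a generalized character.
-/

set_option autoImplicit false

namespace Cfsg.Agent.H300.Cls

open Cfsg Cfsg.Agent.Characters.Brauer Cfsg.Agent.PermChar.SymAlt
open scoped ComplexConjugate

variable {G : Type*} [Group G]

/-- the class function with the table `v` -/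
def tv (fam : G → ℕ) (v : List ℤ) (g : G) : ℂ := ((v.getD (fam g) 0 : ℤ) : ℂ)

/-- the class function with the table `v` is a generalized character -/
def GC (fam : G → ℕ) (v : List ℤ) : Prop := IsGeneralizedCharacter G (tv fam v)

/-- exterior square of a generalized character -/
theorem isGeneralizedCharacter_altSq {θ : G → ℂ} (h : IsGeneralizedCharacter G θ) :
    IsGeneralizedCharacter G (fun g => (θ g ^ 2 - θ (g * g)) / 2) := by
  obtain ⟨α, β, hα, hβ, rfl⟩ := h
  have h1 := isGeneralizedCharacter_of_isCharacter (isCharacter_altSq hα)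
  have h2 := isGeneralizedCharacter_of_isCharacter (isCharacter_symSq hβ)
  have h3 := isGeneralizedCharacter_mul (isGeneralizedCharacter_of_isCharacter hα)
    (isGeneralizedCharacter_of_isCharacter hβ)
  have h4 := isGeneralizedCharacter_sub (isGeneralizedCharacter_add h1 h2) h3
  refine (?_ : (fun g => ((α - β) g ^ 2 - (α - β) (g * g)) / 2) = _) ▸ h4
  funext g
  simp only [Pi.sub_apply, Pi.add_apply, Pi.mul_apply]
  ring

theorem isGeneralizedCharacter_nsmul' {θ : G → ℂ} (h : IsGeneralizedCharacter G θ) (n : ℕ) :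
    IsGeneralizedCharacter G (fun g => (n : ℂ) * θ g) := by
  induction n with
  | zero =>
    refine (?_ : (fun g => ((0 : ℕ) : ℂ) * θ g) = 0) ▸ isGeneralizedCharacter_zero
    funext g
    simp
  | succ n ih =>
    refine (?_ : (fun g => ((n + 1 : ℕ) : ℂ) * θ g) = _) ▸ isGeneralizedCharacter_add ih h
    funext g
    simp only [Pi.add_apply]
    push_cast
    ring

theorem isGeneralizedCharacter_zsmul' {θ : G → ℂ} (h : IsGeneralizedCharacter G θ) (n : ℤ) :
    IsGeneralizedCharacter G (fun g => (n : ℂ) * θ g) := by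
  obtain ⟨k, rfl | rfl⟩ := n.eq_nat_or_neg
  · simpa using isGeneralizedCharacter_nsmul' h k
  · refine (?_ : (fun g => ((-(k : ℤ) : ℤ) : ℂ) * θ g) = _) ▸ isGeneralizedCharacter_neg (isGeneralizedCharacter_nsmul' h k)
    funext g
    simp only [Pi.neg_apply]
    push_cast
    ring

variable {fam : G → ℕ} {N : ℕ}

theorem GC.of {θ : G → ℂ} (h : IsGeneralizedCharacter G θ) {r : List ℤ} (hr : ∀ g, tv fam r g = θ g) : GC fam r := by
  rw [GC, funext hr]
  exact h

/-- check of an identity for all families -/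
def chkAll (N : ℕ) (f : ℕ → Bool) : Bool := (List.range N).all f

theorem chkAll_iff {f : ℕ → Bool} : chkAll N f = true ↔ ∀ i < N, f i = true := by
  rw [chkAll, List.all_eq_true]
  simp only [List.mem_range]

theorem GC.mul (hf : ∀ g, fam g < N) {v w : List ℤ} (hv : GC fam v) (hw : GC fam w) (r : List ℤ)
    (h : chkAll N (fun i => decide (r.getD i 0 = v.getD i 0 * w.getD i 0)) = true) : GC fam r := by
  rw [chkAll_iff] at h
  refine GC.of (isGeneralizedCharacter_mul hv hw) fun g => ?_
  have h1 := of_decide_eq_true (h _ (hf g))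
  simp only [Pi.mul_apply, tv]
  rw [h1]
  push_cast
  rfl

theorem GC.psi [Finite G] (hf : ∀ g, fam g < N) {k : ℕ} {P : List ℕ} (hP : ∀ g, fam (g ^ k) = P.getD (fam g) 0)
    {v : List ℤ} (hv : GC fam v) (r : List ℤ)
    (h : chkAll N (fun i => decide (r.getD i 0 = v.getD (P.getD i 0) 0)) = true) : GC fam r := by
  rw [chkAll_iff] at h
  refine GC.of (Cfsg.Agent.H139.Cusp.isGeneralizedCharacter_pow hv k) fun g => ?_
  have h1 := of_decide_eq_true (h _ (hf g))
  simp only [tv]
  rw [h1, hP]

theorem GC.alt (hf : ∀ g, fam g < N) {P : List ℕ} (hP : ∀ g, fam (g ^ 2) = P.getD (fam g) 0)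
    {v : List ℤ} (hv : GC fam v) (r : List ℤ)
    (h : chkAll N (fun i => decide (2 * r.getD i 0 = v.getD i 0 ^ 2 - v.getD (P.getD i 0) 0)) = true) : GC fam r := by
  rw [chkAll_iff] at h
  refine GC.of (isGeneralizedCharacter_altSq hv) fun g => ?_
  have h1 := of_decide_eq_true (h _ (hf g))
  simp only [tv]
  rw [← pow_two, hP]
  have h2 : ((2 * r.getD (fam g) 0 : ℤ) : ℂ) = ((v.getD (fam g) 0 ^ 2 - v.getD (P.getD (fam g) 0) 0 : ℤ) : ℂ) := by
    rw [h1]
  push_cast at h2
  rw [← h2]
  ring

/-- linear combination -/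
def lc : List (ℤ × List ℤ) → ℕ → ℤ
  | [], _ => 0
  | p :: l, i => p.1 * p.2.getD i 0 + lc l i

theorem GC.lin (hf : ∀ g, fam g < N) (l : List (ℤ × List ℤ)) (hl : ∀ p ∈ l, GC fam p.2) (r : List ℤ)
    (h : chkAll N (fun i => decide (r.getD i 0 = lc l i)) = true) : GC fam r := by
  rw [chkAll_iff] at h
  have key : ∀ l : List (ℤ × List ℤ), (∀ p ∈ l, GC fam p.2) →
      IsGeneralizedCharacter G (fun g => ((lc l (fam g) : ℤ) : ℂ)) := by
    intro l
    induction l with
    | nil =>
      intro _
      refine (?_ : (fun g => ((lc [] (fam g) : ℤ) : ℂ)) = 0) ▸ isGeneralizedCharacter_zero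
      funext g
      simp [lc]
    | cons p l ih =>
      intro hl
      have h1 := isGeneralizedCharacter_zsmul' (hl p List.mem_cons_self) p.1
      have h2 := ih fun q hq => hl q (List.mem_cons_of_mem _ hq)
      refine (?_ : (fun g => ((lc (p :: l) (fam g) : ℤ) : ℂ)) = _) ▸ isGeneralizedCharacter_add h1 h2
      funext g
      simp only [Pi.add_apply, lc, tv]
      push_cast
      rfl
  refine GC.of (key l hl) fun g => ?_
  have h1 := of_decide_eq_true (h _ (hf g))
  simp only [tv]
  rw [h1]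

/-- an irreducible character from a table -/
theorem GC.irr [Fintype G] {v : List ℤ} (hv : GC fam v) {m : ℕ} (r : Fin m → G)
    (hn : ∀ i j, IsConj (r i) (r j) → i = j) (hcov : ∀ g, ∃ i, IsConj (r i) g) (c : Fin m → ℕ)
    (hc : ∀ i, Nat.card {u : G // IsConj (r i) u} = c i) (hfc : ∀ x y, IsConj x y → fam x = fam y)
    (f : Fin m → ℕ) (hfr : ∀ i, fam (r i) = f i)
    (hsum : ∑ i, (c i : ℤ) * (v.getD (f i) 0) ^ 2 = Nat.card G) (h1 : 0 < v.getD (fam 1) 0) :
    IsIrrCharacter G (tv fam v) := by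
  refine Cfsg.Agent.H621.AltChar.isIrr_of_int G hv (fun g => v.getD (fam g) 0) (fun g => rfl) ?_ h1
  rw [sum_classes r hn hcov (fun g => v.getD (fam g) 0 ^ 2) (fun x y hxy => by rw [hfc x y hxy]), ← hsum]
  refine Finset.sum_congr rfl fun i _ => ?_
  rw [hc, hfr, nsmul_eq_mul]

end Cfsg.Agent.H300.Cls
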